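import Cfsg.Agent.H729.Rg.Six
import Cfsg.Agent.S5800
import Cfsg.Agent.S5803

/-!
# S3691-T10: `kext_six` (helper729)
-/

set_option autoImplicit false

namespace Cfsg.Agent.H729.Rg

open Module QuadraticMap Cfsg Cfsg.Geo Cfsg.Agent.LieClassical.OrthCore Cfsg.Agent.LieClassical.OrthTrans
  Cfsg.Agent.H955 Cfsg.Agent.H954.TSing Cfsg.Agent.H884.El Cfsg.Agent.H278.Cov Cfsg.Agent.H449.Reg

universe v

variable {F : Type} [Field F] [Fintype F] {V : Type v} [AddCommGroup V] [Module F V] [FiniteDimensional F V]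
  {Q : QuadraticForm F V} {H A : Subgroup (V ≃ₗ[F] V)}

set_option linter.unusedVariables false in
/-- (T10) `m = 6` -/
theorem kext_six {p f r a : ℕ} (h3 : 3 ≤ p ^ f) (hn : finrank F V = 12) (hQ : Nondeg Q) (hA : A ≤ O Q)
    (hirr : ∀ W : Submodule F V, (∀ a ∈ A, ∀ w ∈ W, a w ∈ W) → W = ⊥ ∨ W = ⊤) (hK : AExt 2 A)
    (hp : p.Prime) (hF : Fintype.card F = p ^ f) (hr : PP p (f * 10) r)
    {g : V ≃ₗ[F] V} (hg : g ∈ A) (ho : orderOf g = r ^ a) (hbig : 21 < r ^ a) (hdvd : r ^ a ∣ (p ^ f) ^ 10 - 1) :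
    (∀ t, PP (p ^ f) 8 t → t ∣ Nat.card A) ∨
      (∀ t b, PP (p ^ f) 6 t → t ^ b ∣ (p ^ f) ^ 6 - 1 → t ^ (2 * b) ∣ Nat.card A) :=
  kext_six_core (fun _ _ _ H hH hS => S5800.result H hH hS) (fun _ _ _ _ hE H hH hS => S5803.result _ hE H hH hS)
    h3 hn hirr hK hp hF hr hg ho hbig

end Cfsg.Agent.H729.Rg
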