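import Cfsg.Agent.H964.Rg.Ctx
import Cfsg.Agent.H655.Rg.Fld
import Cfsg.Agent.H955.QMinus
import Cfsg.Agent.S0290

/-!
# S3691-T14b: `minus_N` (helper729)

A factor which stabilises a subspace of dimension at most two containing a singular vector: the other factor contains the
`r`-part of the number of singular vectors.
-/

set_option autoImplicit false
set_option linter.unusedSectionVars false

namespace Cfsg.Agent.H729.Rg

open Module QuadraticMap Cfsg Cfsg.Geo Cfsg.Agent.LieClassical.OrthCore Cfsg.Agent.LieClassical.OrthTrans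
  Cfsg.Agent.H454.Reg Cfsg.Agent.H884.El Cfsg.Agent.H955 Cfsg.Agent.H954.TSing Cfsg.Agent.H193.Dg Cfsg.Agent.H851.Dg
  Cfsg.Agent.H449.Reg Cfsg.Agent.H964.Rg
open Cfsg.Agent.H951 (fx cm Inv)
open Cfsg.Agent.LieClassical.OrthCount (OG mem_OG isometryGroupEquiv)
open Cfsg.Agent.LieClassical.OrthFinite (glEquiv glEquiv_apply)
open scoped MatrixGroups Matrix

universe u v

section count

variable {F : Type u} [Field F] [Finite F] {V : Type v} [AddCommGroup V] [Module F V] [FiniteDimensional F V]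
  {Q : QuadraticForm F V}

theorem card_zero (hQ : Nondeg Q) {m : ℕ} (hm : 1 ≤ m) (hd : finrank F V = 2 * m) (hP : ¬ IsPlus Q) :
    Nat.card {v : V // Q v = 0} = Nat.card F ^ (2 * m - 1) + Nat.card F ^ (m - 1) - Nat.card F ^ m := by
  classical
  have := Fintype.ofFinite F
  obtain ⟨a, b, hab⟩ := exists_aniso_coeff F
  obtain ⟨e, he⟩ := exists_minus_equiv hab (m - 1) Q hQ (by omega) hP
  rw [← S0290.result (F := F) (q := Nat.card F) Nat.card_eq_fintype_card.symm m hm a b hab]
  exact Nat.card_congr (e.toEquiv.subtypeEquiv fun v => by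
    change Q v = 0 ↔ quadFormMinus (m - 1) F a b (e v) = 0
    rw [← LieClassical.QuadForms.coe_minusForm, he])

theorem num_sing {q m : ℕ} (hq : 1 ≤ q) (hm : 1 ≤ m) :
    q ^ (2 * m - 1) + q ^ (m - 1) - q ^ m - 1 = (q ^ m + 1) * (q ^ (m - 1) - 1) := by
  obtain ⟨n, rfl⟩ : ∃ n, m = n + 1 := ⟨m - 1, by omega⟩
  rw [Nat.add_sub_cancel, show 2 * (n + 1) - 1 = 2 * n + 1 by omega]
  obtain ⟨c, hc⟩ : ∃ c, q ^ n = c + 1 := ⟨q ^ n - 1, by have := Nat.one_le_pow n q hq; omega⟩
  rw [show q ^ (2 * n + 1) = q * (q ^ n * q ^ n) by ring, pow_succ, hc, Nat.add_sub_cancel]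
  have h1 : q * ((c + 1) * (c + 1)) + (c + 1) = (c + 1) * q + 1 + ((c + 1) * q + 1) * c := by ring
  rw [h1]
  omega

/-- the number of singular vectors -/
theorem card_sing (hQ : Nondeg Q) {m : ℕ} (hm : 1 ≤ m) (hd : finrank F V = 2 * m) (hP : ¬ IsPlus Q) :
    Nat.card {v : V // Q v = 0 ∧ v ≠ 0} = (Nat.card F ^ m + 1) * (Nat.card F ^ (m - 1) - 1) := by
  have hfin : Finite V := Module.finite_of_finite F
  have h0 : Nat.card {v : V // Q v = 0} = Nat.card {v : V // Q v = 0 ∧ v ≠ 0} + 1 := by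
    have h1 := Set.ncard_sdiff_singleton_add_one (s := {v : V | Q v = 0}) (a := 0) (QuadraticMap.map_zero _)
    exact h1.symm
  rw [← num_sing Nat.card_pos hm, ← card_zero hQ hm hd hP, h0, Nat.add_sub_cancel]

/-- orbit and stabiliser -/
theorem card_mul_dvd {x : V} (hx : Q x = 0) (hx0 : x ≠ 0)
    (htr : ∀ x', Q x' = 0 → x' ≠ 0 → ∃ g ∈ OG Q, g x = x') {R : Type*} [Group R] (φ : R →* OG Q)
    (hφ : Function.Injective φ) (hfix : ∀ y, (φ y : V ≃ₗ[F] V) x = x) :
    Nat.card {v : V // Q v = 0 ∧ v ≠ 0} * Nat.card R ∣ Nat.card (OG Q) := by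
  have hfin : Finite V := Module.finite_of_finite F
  have h1 := Subgroup.index_mul_card (MulAction.stabilizer (OG Q) x)
  rw [← h1, MulAction.index_stabilizer]
  refine mul_dvd_mul ?_ ?_
  · have h2 : MulAction.orbit (OG Q) x = {v | Q v = 0 ∧ v ≠ 0} := by
      ext v
      constructor
      · rintro ⟨g, rfl⟩
        exact ⟨(g.2 x).trans hx, fun h => hx0 (g.1.map_eq_zero_iff.1 h)⟩
      · rintro ⟨hv, h0⟩
        obtain ⟨g, hg, rfl⟩ := htr v hv h0
        exact ⟨⟨g, hg⟩, rfl⟩
    rw [h2]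
    exact dvd_rfl
  · refine Subgroup.card_dvd_of_injective (φ.codRestrict (MulAction.stabilizer (OG Q) x) fun y => ?_) fun a b hab => ?_
    · rw [MulAction.mem_stabilizer_iff]
      exact hfix y
    · exact hφ (congrArg Subtype.val hab)

end count

section trivial

variable {F : Type u} [Field F] [Fintype F] {W : Type v} [AddCommGroup W] [Module F W] [FiniteDimensional F W]

/-- `r`-elements are trivial on small spaces -/
theorem eq_one_of_small {e r : ℕ} (hr : PP (Nat.card F) e r) (hW : finrank F W < e) (j : ℕ) :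
    ∀ y : Module.End F W, y ^ (r ^ j) = 1 → y = 1 := by
  have h1 : ∀ y : Module.End F W, y ^ r = 1 → y = 1 := by
    intro y hy
    by_contra hne
    have h2 := H655.Rg.dvd_cm hr (by omega) hy
    have h3 := H655.Rg.cm_pos hne
    have h4 : finrank F (cm y) ≤ finrank F W := Submodule.finrank_le _
    have := Nat.le_of_dvd h3 h2
    omega
  induction j with
  | zero => intro y hy; simpa using hy
  | succ j ih =>
    intro y hy
    rw [pow_succ', pow_mul] at hy
    exact h1 y (ih _ hy)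

end trivial

section num

/-- the numbers -/
theorem exists_num {m p f : ℕ} (hm : 5 ≤ m) (hmp : m.Prime) (hq5 : m = 5 → 5 ≤ p ^ f) (hq7 : m = 7 → 3 ≤ p ^ f)
    (hp : p.Prime) (hf : 1 ≤ f) : ∃ e r b, 3 ≤ e ∧ e ∣ m - 1 ∧ PP p (f * e) r ∧ r ^ b ∣ (p ^ f) ^ (m - 1) - 1 ∧ 1 ≤ b ∧
      ¬ r ^ b ∣ 2 * m := by
  have hpf : 1 ≤ p ^ f := Nat.one_le_pow _ _ hp.pos
  have hmodd : Odd m := hmp.odd_of_ne_two (by omega)
  -- one prime different from `m`
  have key : ∀ e r, 3 ≤ e → e ∣ m - 1 → PP p (f * e) r → r ≠ m → ∃ e r b, 3 ≤ e ∧ e ∣ m - 1 ∧ PP p (f * e) r ∧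
      r ^ b ∣ (p ^ f) ^ (m - 1) - 1 ∧ 1 ≤ b ∧ ¬ r ^ b ∣ 2 * m := by
    intro e r he hd hr hne
    have h1 : e ≤ f * e := Nat.le_mul_of_pos_left e hf
    have h2 := hr.lt (by omega)
    refine ⟨e, r, 1, he, hd, hr, ?_, le_rfl, ?_⟩
    · rw [pow_one]
      exact ((hr.of_pow hf).dvd_iff hpf _).2 hd
    · rw [pow_one]
      intro h3
      rcases (hr.prime.dvd_mul).1 h3 with h4 | h4
      · have := Nat.le_of_dvd (by norm_num) h4
        omega
      · exact hne ((Nat.prime_dvd_prime_iff_eq hr.prime hmp).1 h4)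
  by_cases h6 : p = 2 ∧ f * (m - 1) = 6
  · exfalso
    obtain ⟨rfl, h6⟩ := h6
    have hf1 : f = 1 := by
      by_contra hne
      have h2 : 2 * (m - 1) ≤ f * (m - 1) := Nat.mul_le_mul_right _ (by omega)
      omega
    subst hf1
    have hm7 : m = 7 := by omega
    have := hq7 hm7
    norm_num at this
  · have h1 : m - 1 ≤ f * (m - 1) := Nat.le_mul_of_pos_left _ hf
    obtain ⟨l, hl⟩ := exists_pp hp.two_le (e := f * (m - 1)) (by omega) h6
    by_cases hlm : l = m
    · subst hlm
      have h2 := hl.dvd_sub_one (by omega)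
      have hf1 : f = 1 := by
        by_contra hne
        have h3 : 2 * (l - 1) ≤ f * (l - 1) := Nat.mul_le_mul_right _ (by omega)
        have := Nat.le_of_dvd (by omega) h2
        omega
      subst hf1
      rw [one_mul] at hl
      rw [pow_one] at *
      by_cases hm5 : l = 5
      · subst hm5
        have hp5 := hq5 rfl
        have hpodd : Odd p := hp.odd_of_ne_two (by omega)
        have h3 : 5 ∣ p ^ 4 - 1 := (hl.dvd_iff hpf 4).2 dvd_rfl
        have h4 : ¬ 5 ∣ p ^ 2 - 1 := fun h => by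
          have := (hl.dvd_iff hpf 2).1 h
          omega
        have h5 : p ^ 4 - 1 = (p ^ 2 + 1) * (p ^ 2 - 1) := by
          have := Nat.sq_sub_sq (p ^ 2) 1
          rw [one_pow, ← pow_mul] at this
          exact this
        have h7 : 5 ∣ p ^ 2 + 1 := by
          rw [h5] at h3
          rcases (Nat.prime_five.dvd_mul).1 h3 with h | h
          · exact h
          · exact absurd h h4
        by_cases h25 : 5 ^ 2 ∣ p ^ 2 + 1
        · refine ⟨4, 5, 2, by norm_num, by norm_num, by rw [one_mul]; exact hl, ?_, by norm_num, by norm_num⟩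
          show 5 ^ 2 ∣ p ^ 4 - 1
          rw [h5]
          exact h25.mul_right _
        · obtain ⟨c, hc⟩ := hpodd
          have h8 : p ^ 2 + 1 = 2 * (2 * (c * c + c) + 1) := by rw [hc]; ring
          have h9 : 5 ∣ 2 * (c * c + c) + 1 := by
            rw [h8] at h7
            exact (Nat.Coprime.dvd_of_dvd_mul_left (by norm_num : Nat.Coprime 5 2) h7)
          obtain ⟨d, hd⟩ := h9
          have h10 : ¬ 5 ∣ d := by
            rintro ⟨d', rfl⟩
            apply h25
            rw [h8, hd]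
            exact ⟨2 * d', by ring⟩
          have h11 : 5 * 5 ≤ p * p := Nat.mul_le_mul hp5 hp5
          have h12 : d ≠ 1 := by
            rintro rfl
            rw [pow_two, hd] at h8
            omega
          obtain ⟨l, hlp, hld⟩ := Nat.exists_prime_and_dvd h12
          have hl2 : l ≠ 2 := by
            rintro rfl
            have : 2 ∣ 5 * d := hld.mul_left 5
            rw [← hd] at this
            omega
          have hl5 : l ≠ 5 := by
            rintro rfl
            exact h10 hld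
          have hlP : PP p 4 l := by
            refine ⟨hlp, ?_⟩
            have := Fact.mk hlp
            have h13 : l ∣ p ^ 2 + 1 := by rw [h8, hd]; exact (hld.mul_left 5).mul_left 2
            have h14 : (p : ZMod l) ^ 2 = -1 := by
              have := (ZMod.natCast_eq_zero_iff (p ^ 2 + 1) l).2 h13
              push_cast at this
              exact eq_neg_of_add_eq_zero_left this
            have h15 : (-1 : ZMod l) ≠ 1 := by
              have : Fact (2 < l) := ⟨by have := hlp.two_le; omega⟩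
              exact ZMod.neg_one_ne_one
            exact orderOf_eq_prime_pow (p := 2) (n := 1) (by rw [pow_one, h14]; exact h15)
              (by rw [show 2 ^ (1 + 1) = 2 * 2 from rfl, pow_mul, h14]; ring)
          exact key 4 l (by norm_num) (by norm_num) (by rw [one_mul]; exact hlP) hl5
      · obtain ⟨c, hc⟩ := hmodd
        by_cases h13 : p = 2 ∧ c = 6
        · obtain ⟨rfl, rfl⟩ := h13
          refine key 3 7 (by norm_num) (by omega) ⟨by norm_num, ?_⟩ (by omega)
          have h7 : Fact (Nat.Prime 3) := ⟨by norm_num⟩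
          rw [one_mul]
          exact orderOf_eq_prime (by decide) (by decide)
        · obtain ⟨l', hl'⟩ := exists_pp hp.two_le (e := c) (by omega) h13
          refine key c l' (by omega) (by rw [hc, Nat.add_sub_cancel]; exact Dvd.intro_left 2 rfl)
            (by rw [one_mul]; exact hl') ?_
          rintro rfl
          have h14 := hl'.ord
          rw [hl.ord] at h14
          omega
    · exact key (m - 1) l (by omega) dvd_rfl hl hlm

end num

section cx

variable {ι : Type} [Fintype ι] [DecidableEq ι] {F : Type v} [Field F] [Fintype F] {Q : QuadraticForm F (ι → F)}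
variable {G : Type u} [Group G] [Finite G] {T : Subgroup G} [T.Normal] {hG : Good Q} {eT : T ≃* POmega F (⇑Q)}
  {hI : Ind (eP hG eT)} {X Y : Subgroup G} {p f m N : ℕ}

/-- odd primes: `|T|` and `|O(Q)|` -/
theorem fact_T (hD : H390.Lift.Data Q) (eT : T ≃* POmega F (⇑Q)) {r : ℕ} (hr : r.Prime) (hr2 : r ≠ 2) :
    (Nat.card (isometryGroup F (⇑Q))).factorization r = (Nat.card T).factorization r := by
  have h1 := LieClassical.OrthCenter.card_POmega_mul (F := F) (⇑Q)
  have hfin : Finite (isometryGroup F (⇑Q)) := inferInstance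
  rw [← h1, Nat.card_congr eT.toEquiv]
  have hc : ¬ r ∣ Nat.card (Subgroup.center (Cfsg.Omega F (⇑Q))) := by
    intro h
    have := Fact.mk hr
    obtain ⟨g, hg⟩ := exists_prime_orderOf_dvd_card' r h
    have h2 := H390.Lift.center_sq hD (g : Cfsg.Omega F (⇑Q)) g.2
    have h3 : orderOf g ∣ 2 := orderOf_dvd_of_pow_eq_one (Subtype.ext h2)
    rw [hg] at h3
    exact hr2 ((Nat.prime_dvd_prime_iff_eq hr Nat.prime_two).1 h3)
  have hi : ¬ r ∣ (Cfsg.Omega F (⇑Q)).index := by
    rcases hD.idx with h | h <;> rw [h] <;> intro h2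
    · exact hr2 ((Nat.prime_dvd_prime_iff_eq hr Nat.prime_two).1 h2)
    · exact hr2 ((Nat.prime_dvd_prime_iff_eq hr Nat.prime_two).1 (hr.dvd_of_dvd_pow (show r ∣ 2 ^ 2 from h2)))
  have h01 : Nat.card (POmega F (⇑Q)) ≠ 0 := Nat.card_pos.ne'
  have h02 : Nat.card (Subgroup.center (Cfsg.Omega F (⇑Q))) ≠ 0 := Nat.card_pos.ne'
  have h03 : (Cfsg.Omega F (⇑Q)).index ≠ 0 := Subgroup.index_ne_zero_of_finite
  rw [Nat.factorization_mul (Nat.mul_ne_zero h01 h02) h03, Nat.factorization_mul h01 h02, Finsupp.add_apply,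
    Finsupp.add_apply, Nat.factorization_eq_zero_of_not_dvd hc, Nat.factorization_eq_zero_of_not_dvd hi, add_zero,
    add_zero]

/-- an `r`-element which stabilises a small subspace fixes it -/
theorem fix_of_small {e r : ℕ} (hr : PP (Nat.card F) e r) {S : Submodule F (ι → F)} (hS : finrank F S < e) {g : GL ι F}
    (hg : g ∈ subspaceStabilizer S) {j : ℕ} (hgj : g ^ (r ^ j) = 1) {x : ι → F} (hx : x ∈ S) :
    (g : Matrix ι ι F) *ᵥ x = x := by
  have hst : ∀ w ∈ S, Matrix.toLin' (g : Matrix ι ι F) w ∈ S := fun w hw => by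
    rw [Matrix.toLin'_apply]
    exact (hg w).1 hw
  let y : Module.End F S := (Matrix.toLin' (g : Matrix ι ι F)).restrict hst
  have hpow : ∀ (k : ℕ) (w : S), ((y ^ k) w : ι → F) = ((g ^ k : GL ι F) : Matrix ι ι F) *ᵥ (w : ι → F) := by
    intro k
    induction k with
    | zero => intro w; simp
    | succ k ih =>
      intro w
      rw [pow_succ, Module.End.mul_apply, ih, pow_succ, Units.val_mul, ← Matrix.mulVec_mulVec]
      rfl
  have hy : y ^ (r ^ j) = 1 := by
    apply LinearMap.ext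
    intro w
    apply Subtype.ext
    rw [hpow, hgj, Units.val_one, Matrix.one_mulVec]
    rfl
  have h1 := eq_one_of_small hr hS j y hy
  have h2 := hpow 1 ⟨x, hx⟩
  rw [pow_one, pow_one, h1] at h2
  exact h2.symm

/-- **the number of singular vectors and the opposite factor** -/
theorem minus_pow (h : Cx hI X Y p f m (2 * m)) (hm : 5 ≤ m) (hmin : ¬ IsPlus Q)
    {S : Submodule F (ι → F)} {x : ι → F} (hx : Q x = 0) (hx0 : x ≠ 0) (hxS : x ∈ S) (hS2 : finrank F S ≤ 2)
    (hYS : preG eT Y ≤ subspaceStabilizer S) {e r b : ℕ} (he3 : 3 ≤ e) (hr : PP (Nat.card F) e r)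
    (ho : ¬ r ∣ Nat.card (Cfsg.Out T)) (hb : r ^ b ∣ Nat.card F ^ (m - 1) - 1) : r ^ b ∣ Nat.card (X.subgroupOf T) := by
  classical
  have := Fact.mk hr.prime
  have hr2 : r ≠ 2 := by have := hr.lt (by omega); omega
  obtain ⟨R⟩ : Nonempty (Sylow r (preG eT Y)) := inferInstance
  have hRc := R.card_eq_multiplicity
  let φ : R →* OG Q := (isometryGroupEquiv Q).toMonoidHom.comp
    ((Subgroup.inclusion preG_le).comp (R : Subgroup (preG eT Y)).subtype)
  have hφ : Function.Injective φ :=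
    (isometryGroupEquiv Q).injective.comp ((Subgroup.inclusion_injective preG_le).comp (Subgroup.subtype_injective _))
  have hφa : ∀ (y : R) (w : ι → F), (φ y : (ι → F) ≃ₗ[F] (ι → F)) w =
      (((y : preG eT Y) : GL ι F) : Matrix ι ι F) *ᵥ w := fun y w => rfl
  have hfix : ∀ y, (φ y : (ι → F) ≃ₗ[F] (ι → F)) x = x := by
    intro y
    rw [hφa]
    obtain ⟨j, hj⟩ := R.2 y
    refine fix_of_small hr (by omega) (hYS (y : preG eT Y).2) (j := j) ?_ hxS
    have h1 := congrArg (fun z : R => ((z : preG eT Y) : GL ι F)) hj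
    exact h1
  have htr : ∀ x', Q x' = 0 → x' ≠ 0 → ∃ g ∈ OG Q, g x = x' := by
    intro x' hx' h0'
    obtain ⟨g, hg, hgx⟩ := hG.trans_sing hx hx' hx0 h0'
    exact ⟨g, E_le_O hg, hgx⟩
  have h1 := card_mul_dvd hx hx0 htr φ hφ hfix
  rw [card_sing hG.nondeg (by omega) h.finrank_V hmin, ← Nat.card_congr (isometryGroupEquiv Q).toEquiv] at h1
  have h2 : r ^ b * r ^ (Nat.card (preG eT Y)).factorization r ∣ Nat.card (isometryGroup F (⇑Q)) := by
    rw [← hRc]
    exact (mul_dvd_mul (hb.mul_left _) dvd_rfl).trans h1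
  rw [← pow_add, hr.prime.pow_dvd_iff_le_factorization Nat.card_pos.ne', fact_T h.data eT hr.prime hr2,
    ← h.fac.val_eq ho] at h2
  have h3 : (Nat.card (Y.subgroupOf T)).factorization r ≤ (Nat.card (preG eT Y)).factorization r :=
    (Nat.factorization_le_iff_dvd Nat.card_pos.ne' Nat.card_pos.ne').2 card_dvd_preG r
  rw [hr.prime.pow_dvd_iff_le_factorization Nat.card_pos.ne']
  omega

/-- (T14.3) -/
theorem minus_N (h : Cx hI X Y p f m (2 * m)) (hm : 5 ≤ m) (hmp : m.Prime) (hq5 : m = 5 → 5 ≤ p ^ f) (hq7 : m = 7 → 3 ≤ p ^ f)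
    (hmin : ¬ IsPlus Q) {S : Submodule F (ι → F)} {x : ι → F} (hx : Q x = 0) (hx0 : x ≠ 0) (hxS : x ∈ S)
    (hS2 : finrank F S ≤ 2) (hYS : preG eT Y ≤ subspaceStabilizer S) :
    ∃ N, N ∣ Nat.card (preG eT X) ∧ N.Coprime ((p ^ f) ^ (2 * m) - 1) ∧ ¬ N ∣ 2 * m := by
  obtain ⟨e, r, b, he, hem, hr, hb, hb1, hnd⟩ := exists_num hm hmp hq5 hq7 h.prime h.pos
  refine ⟨r ^ b, ?_, ?_, hnd⟩
  · refine (minus_pow h hm hmin hx hx0 hxS hS2 hYS he (h.pp hr) (h.out e r he hr) ?_).trans card_dvd_preG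
    rw [h.card]
    exact hb
  · refine Nat.Coprime.pow_left b ((Nat.Prime.coprime_iff_not_dvd hr.prime).2 fun h1 => ?_)
    have h2 := ((hr.of_pow h.pos).dvd_iff (Nat.one_le_pow _ _ h.prime.pos) (2 * m)).1 h1
    have h3 : e ∣ 2 * (m - 1) := hem.mul_left 2
    have h4 : e ∣ 2 * m - 2 * (m - 1) := Nat.dvd_sub h2 h3
    rw [show 2 * m - 2 * (m - 1) = 2 by omega] at h4
    have := Nat.le_of_dvd (by norm_num) h4
    omega

end cx

end Cfsg.Agent.H729.Rg
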