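import Cfsg.Agent.H729.Rg.SloOf
import Cfsg.Agent.H269.Rg.LoNine
import Cfsg.Agent.H735.Rg.LoEight
import Cfsg.Agent.H396.Rg.SpEightFin

/-!
# S3691-H: the list properties of the sections for `m = 5` (helper729)

`slo_nine`, `slo_eight`, `sls_eight`, with no hypothesis: `lo_nine` (helper269), `lo_eight` (helper735), `sp_eight`
(helper396).
-/

set_option autoImplicit false
set_option linter.unusedSectionVars false

namespace Cfsg.Agent.H729.Rg

open Module QuadraticMap Cfsg Cfsg.Geo Cfsg.Agent.LieClassical.OrthCore Cfsg.Agent.LieClassical.OrthTrans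
  Cfsg.Agent.H454.Reg Cfsg.Agent.H884.El Cfsg.Agent.H955 Cfsg.Agent.H954.TSing Cfsg.Agent.H193.Dg Cfsg.Agent.H851.Dg
  Cfsg.Agent.H449.Reg Cfsg.Agent.H964.Rg
open Cfsg.Agent.H951 (fx cm Inv)
open Cfsg.Agent.H278.Cov (Red Ext Num)
open scoped MatrixGroups Matrix

universe u v

section zero

variable {ι : Type} [Fintype ι] [DecidableEq ι] {F : Type} [Field F] [Fintype F] {Q : QuadraticForm F (ι → F)}
variable {G : Type u} [Group G] [Finite G] {T : Subgroup G} [T.Normal] {hG : Good Q} {eT : T ≃* POmega F (⇑Q)}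
  {hI : Ind (eP hG eT)} {X Y : Subgroup G} {p f m N : ℕ}

theorem slo_nine (h : Cx hI X Y p f 5 N) (h5 : 5 ≤ p ^ f) (hp2 : (2 : F) ≠ 0) (hB : Big T X p f 8) :
    SLO Q (preG eT X) 9 1 :=
  slo_nine_of (fun hp hp2 hF h5 hQ hn hH _ hg hr ho hb => H269.Rg.lo_nine hp hp2 hF h5 hQ hn hH hg hr ho hb) h h5 hp2 hB

theorem slo_eight (h : Cx hI X Y p f 5 N) (h5 : 5 ≤ p ^ f) (hB : Big T X p f 8) : SLO Q (preG eT X) 8 2 :=
  slo_eight_of (fun hp hF h5 hQ hn hH _ hg hr ho hb => H735.Rg.lo_eight hp hF h5 hQ hn hH hg hr ho hb) h h5 hB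

theorem sls_eight (h : Cx hI X Y p f 5 N) (h5 : 5 ≤ p ^ f) (hp2 : (2 : F) = 0) (hB : Big T X p f 8) :
    SLS Q (preG eT X) 8 2 :=
  sls_eight_of (fun hF h5 hQ hn hH _ hg hr ho hb => H396.Rg.sp_eight hF h5 hQ hn hH hg hr ho hb) h h5 hp2 hB

end zero

end Cfsg.Agent.H729.Rg
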