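import Cfsg.Agent.H964.Rg.Slo
import Cfsg.Agent.H128.Rg.SpAbs

/-!
# S3691-H: the list properties of the sections (helper729)

`slo_of`, `sls_of` : dimension at least ten; `slo_nine_of`, `slo_eight_of`, `sls_eight_of` : `m = 5`, from `lo_nine`,
`lo_eight`, `sp_eight` as hypotheses.
-/

set_option autoImplicit false
set_option linter.unusedSectionVars false

namespace Cfsg.Agent.H729.Rg

open Module QuadraticMap Cfsg Cfsg.Geo Cfsg.Agent.LieClassical.OrthCore Cfsg.Agent.LieClassical.OrthTrans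
  Cfsg.Agent.H454.Reg Cfsg.Agent.H884.El Cfsg.Agent.H955 Cfsg.Agent.H954.TSing Cfsg.Agent.H193.Dg Cfsg.Agent.H851.Dg
  Cfsg.Agent.H449.Reg Cfsg.Agent.H964.Rg
open Cfsg.Agent.H951 (fx cm Inv)
open Cfsg.Agent.H278.Cov (Red Ext Num)
open scoped MatrixGroups Matrix

universe u v

section gen

variable {ι : Type} [Fintype ι] [DecidableEq ι] {F : Type v} [Field F] [Fintype F] {Q : QuadraticForm F (ι → F)}
variable {G : Type u} [Group G] [Finite G] {T : Subgroup G} [T.Normal] {hG : Good Q} {eT : T ≃* POmega F (⇑Q)}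
  {hI : Ind (eP hG eT)} {X Y : Subgroup G} {p f m N : ℕ}

/-- elements of the section groups -/
theorem sec_elt (h : Cx hI X Y p f m N) {n k r a : ℕ} (hk : 2 ≤ k) (hmk : m < k) (hιn : 2 * m < n + k)
    (hr : PP p (f * k) r) (hb : 2 * k + 1 < r ^ a) (hdX : r ^ a ∣ Nat.card (X.subgroupOf T))
    {U R : Submodule F (ι → F)} (hS : Sec Q (preG eT X) U R) (hU : finrank F U = n) (hR : finrank F R ≤ 1) :
    ∃ e ∈ secG hS, orderOf e = r ^ a := by
  obtain ⟨g, hg, ho⟩ := h.elt hr hk hmk hdX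
  have ha : a ≠ 0 := by
    rintro rfl
    rw [pow_zero] at hb
    omega
  obtain ⟨e, he, -, hoe⟩ := hS.elt (h.pp hr) hk (by rw [h.dim, hU]; exact hιn) (by omega) hg ho ha
  exact ⟨e, he, hoe⟩

/-- (H) the list properties of the sections, dimension at least ten; `k ≤ n`, `card ι ≤ n + 2` -/
theorem slo_of (hP5 : H659.CovCore.S5948Stmt.{v}) (h : Cx hI X Y p f m N) {n k : ℕ} (hn : 10 ≤ n) (hkn : k ≤ n)
    (hnk : n < 2 * k) (hmk : m < k) (hιn : 2 * m ≤ n + 2) (hB : Big T X p f k) : SLO Q (preG eT X) n (Nat.gcd n k) := by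
  obtain ⟨r, a, hr, hb, hd, hdX⟩ := hB
  intro U R hS hU hR hR0
  obtain ⟨e, he, hoe⟩ := sec_elt h (by omega) hmk (by omega) hr hb hdX hS hU hR
  have h1 := og_abs hP5 hS.nd (hS.le_O hR0) he (k := k)
    (by rw [hoe, hU, h.fcard]; exact num_of h.prime h.pos hr hn hkn hnk hb hd)
  rw [hU] at h1
  exact h1

theorem sls_of (hP5 : H659.CovCore.S5948Stmt.{v}) (h : Cx hI X Y p f m N) (h2 : (2 : F) = 0) {n k : ℕ} (hn : 10 ≤ n) (hkn : k ≤ n)
    (hnk : n < 2 * k) (hmk : m < k) (hιn : 2 * m ≤ n + 2) (hB : Big T X p f k) : SLS Q (preG eT X) n (Nat.gcd n k) := by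
  obtain ⟨r, a, hr, hb, hd, hdX⟩ := hB
  intro U R hS hU hR
  obtain ⟨e, he, hoe⟩ := sec_elt h (by omega) hmk (by omega) hr hb hdX hS hU hR
  have h1 := H128.Rg.sp_abs hP5 h2 hS.nd hS.polar_eq he (k := k)
    (by rw [hoe, hU, h.fcard]; exact num_of h.prime h.pos hr hn hkn hnk hb hd)
  rw [hU] at h1
  exact h1

end gen

section zero

variable {ι : Type} [Fintype ι] [DecidableEq ι] {F : Type} [Field F] [Fintype F] {Q : QuadraticForm F (ι → F)}
variable {G : Type u} [Group G] [Finite G] {T : Subgroup G} [T.Normal] {hG : Good Q} {eT : T ≃* POmega F (⇑Q)}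
  {hI : Ind (eP hG eT)} {X Y : Subgroup G} {p f m N : ℕ}

/-- the statement of `lo_nine` -/
def LoNine (F : Type) [Field F] [Fintype F] : Prop :=
  ∀ {V : Type} [AddCommGroup V] [Module F V] [FiniteDimensional F V] {Q : QuadraticForm F V} {H : Subgroup (V ≃ₗ[F] V)}
    {p f r a : ℕ} (_ : p.Prime) (_ : p ≠ 2) (_ : Fintype.card F = p ^ f) (_ : 5 ≤ p ^ f) (_ : Nondeg Q)
    (_ : finrank F V = 9) (_ : H ≤ O Q) {g : V ≃ₗ[F] V} (_ : g ∈ H) (_ : PP p (f * 8) r) (_ : orderOf g = r ^ a)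
    (_ : 17 < r ^ a),
    (∃ W : Submodule F V, W ≠ ⊥ ∧ W ≠ ⊤ ∧ ∀ h ∈ H, ∀ w ∈ W, h w ∈ W) ∨ E Q ≤ H

/-- the statement of `lo_eight` -/
def LoEight (F : Type) [Field F] [Fintype F] : Prop :=
  ∀ {V : Type} [AddCommGroup V] [Module F V] [FiniteDimensional F V] {Q : QuadraticForm F V} {H : Subgroup (V ≃ₗ[F] V)}
    {p f r a : ℕ} (_ : p.Prime) (_ : Fintype.card F = p ^ f) (_ : 5 ≤ p ^ f) (_ : Nondeg Q)
    (_ : finrank F V = 8) (_ : H ≤ O Q) {g : V ≃ₗ[F] V} (_ : g ∈ H) (_ : PP p (f * 8) r) (_ : orderOf g = r ^ a)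
    (_ : 17 < r ^ a), AExt 2 H ∨ E Q ≤ H

/-- the statement of `sp_eight` -/
def SpEight (F : Type) [Field F] [Fintype F] : Prop :=
  ∀ {V : Type} [AddCommGroup V] [Module F V] [FiniteDimensional F V] {Q : QuadraticForm F V} {H : Subgroup (V ≃ₗ[F] V)}
    {f r a : ℕ} (_ : Fintype.card F = 2 ^ f) (_ : 5 ≤ 2 ^ f) (_ : Nondeg Q)
    (_ : finrank F V = 8) (_ : ∀ h ∈ H, ∀ u v, polar Q (h u) (h v) = polar Q u v)
    {g : V ≃ₗ[F] V} (_ : g ∈ H) (_ : PP 2 (f * 8) r) (_ : orderOf g = r ^ a) (_ : 17 < r ^ a),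
    AExt 2 H ∨ (∀ x : V ≃ₗ[F] V, (∀ u v, polar Q (x u) (x v) = polar Q u v) → x ∈ H) ∨
    (∃ Q' : QuadraticForm F V, (∀ u v, polar Q' u v = polar Q u v) ∧ E Q' ≤ H)

theorem two_of (hF : Fintype.card F = p ^ f) (hp : p.Prime) (hf : 1 ≤ f) : p = 2 ↔ (2 : F) = 0 := by
  have hc : CharP F p := by
    obtain ⟨q, hq⟩ := CharP.exists F
    obtain ⟨n, hqp, hn⟩ := FiniteField.card F q
    rw [hF] at hn
    have h1 : p ∣ q ^ (n : ℕ) := by rw [← hn]; exact dvd_pow_self p (by omega)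
    have h2 := (Nat.prime_dvd_prime_iff_eq hp hqp).1 (hp.dvd_of_dvd_pow h1)
    rw [h2]
    exact hq
  constructor
  · rintro rfl
    have := CharP.cast_eq_zero F 2
    exact_mod_cast this
  · intro h2
    have h3 : p ∣ 2 := (CharP.cast_eq_zero_iff F p 2).1 (by exact_mod_cast h2)
    exact (Nat.prime_dvd_prime_iff_eq hp Nat.prime_two).1 h3

/-- (H') the list properties of the sections for `m = 5` -/
theorem slo_nine_of (hL : LoNine F) (h : Cx hI X Y p f 5 N) (h5 : 5 ≤ p ^ f) (hp2 : (2 : F) ≠ 0) (hB : Big T X p f 8) :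
    SLO Q (preG eT X) 9 1 := by
  obtain ⟨r, a, hr, hb, hd, hdX⟩ := hB
  intro U R hS hU hR hR0
  obtain ⟨e, he, hoe⟩ := sec_elt h (n := 9) (by omega) (by omega) (by omega) hr hb hdX hS hU hR
  rcases hL h.prime (fun h2 => hp2 ((two_of h.fcard h.prime h.pos).1 h2)) h.fcard h5 hS.nd hU (hS.le_O hR0) he hr hoe
    (by omega) with h1 | h1
  · exact Or.inl h1
  · exact Or.inr (Or.inr h1)

theorem slo_eight_of (hL : LoEight F) (h : Cx hI X Y p f 5 N) (h5 : 5 ≤ p ^ f) (hB : Big T X p f 8) :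
    SLO Q (preG eT X) 8 2 := by
  obtain ⟨r, a, hr, hb, hd, hdX⟩ := hB
  intro U R hS hU hR hR0
  obtain ⟨e, he, hoe⟩ := sec_elt h (n := 8) (by omega) (by omega) (by omega) hr hb hdX hS hU hR
  rcases hL h.prime h.fcard h5 hS.nd hU (hS.le_O hR0) he hr hoe (by omega) with h1 | h1
  · exact Or.inr (Or.inl ⟨2, Nat.prime_two, dvd_rfl, h1⟩)
  · exact Or.inr (Or.inr h1)

theorem sls_eight_of (hL : SpEight F) (h : Cx hI X Y p f 5 N) (h5 : 5 ≤ p ^ f) (hp2 : (2 : F) = 0) (hB : Big T X p f 8) :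
    SLS Q (preG eT X) 8 2 := by
  have hp := (two_of h.fcard h.prime h.pos).2 hp2
  subst hp
  obtain ⟨r, a, hr, hb, hd, hdX⟩ := hB
  intro U R hS hU hR
  obtain ⟨e, he, hoe⟩ := sec_elt h (n := 8) (by omega) (by omega) (by omega) hr hb hdX hS hU hR
  rcases hL h.fcard h5 hS.nd hU hS.polar_eq he hr hoe (by omega) with h1 | h1
  · exact Or.inr (Or.inl ⟨2, Nat.prime_two, dvd_rfl, h1⟩)
  · exact Or.inr (Or.inr h1)

end zero

end Cfsg.Agent.H729.Rg
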