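import Cfsg.Agent.H655.Rg.KExt
import Cfsg.Agent.H592.Rl.Classes9
import Cfsg.Agent.S0813
import Cfsg.Agent.H895.SLT.Sigma
import Cfsg.Agent.H956.UnitSim
import Cfsg.Agent.H680.Cov.SU6.Res

/-!
# S3691-T10: `kext_six` (helper729)

Groups of isometries of a space of dimension twelve which normalise a quadratic field.
-/

set_option autoImplicit false

namespace Cfsg.Agent.H729.Rg

open Module QuadraticMap Cfsg Cfsg.Geo Cfsg.Agent.LieClassical.OrthCore Cfsg.Agent.LieClassical.OrthTrans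
  Cfsg.Agent.H955 Cfsg.Agent.H954.TSing Cfsg.Agent.H884.El Cfsg.Agent.H278.Cov Cfsg.Agent.H449.Reg Cfsg.Agent.H655.Rg
open Cfsg.Agent.H951 (fx cm Inv)
open scoped MatrixGroups Matrix commutatorElement

universe u v

section Inv

variable {F : Type u} [Field F] [Fintype F] {W : Type v} [AddCommGroup W] [Module F W] [FiniteDimensional F W]
  {x : Module.End F W} {r : ℕ}

theorem inv_five (hr : PP (Nat.card F) 5 r) (hx : x ^ r = 1) (hx1 : x ≠ 1)
    (hW : finrank F W = 6) : finrank F (fx x) = 1 ∧ finrank F (cm x) = 5 ∧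
    ∀ U : Submodule F W, Inv x U → U ≠ ⊥ → U ≠ ⊤ → U = fx x ∨ U = cm x := by
  have hr0 := ne0 hr (by omega)
  have h1 := dvd_cm hr (by omega) hx
  have h2 := cm_pos hx1
  have h3 : finrank F (cm x) ≤ finrank F W := Submodule.finrank_le _
  have h4 : finrank F (cm x) = 5 := by omega
  have h5 := H951.finrank_fx_add_cm hr0 hx
  have h6 : finrank F (fx x) = 1 := by omega
  refine ⟨h6, h4, fun U hU h0 ht => ?_⟩
  have h7 := H951.finrank_inf_add hr0 hx hU
  have h8 := dvd_inf hr (by omega) hx hU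
  have h9 : finrank F ↥(U ⊓ cm x) ≤ finrank F (cm x) := Submodule.finrank_mono inf_le_right
  have h10 : finrank F ↥(U ⊓ fx x) ≤ finrank F (fx x) := Submodule.finrank_mono inf_le_right
  have h11 : finrank F U ≠ 0 := fun h => h0 (Submodule.finrank_eq_zero.1 h)
  rcases Nat.eq_zero_or_pos (finrank F ↥(U ⊓ cm x)) with h12 | h12
  · left
    have h13 : finrank F ↥(U ⊓ fx x) = finrank F U := by omega
    have h14 : finrank F ↥(U ⊓ fx x) = finrank F (fx x) := by omega
    exact (Submodule.eq_of_le_of_finrank_eq inf_le_left h13).symm.trans (Submodule.eq_of_le_of_finrank_eq inf_le_right h14)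
  · right
    have h13 := Nat.le_of_dvd h12 h8
    have h14 : finrank F ↥(U ⊓ cm x) = finrank F (cm x) := by omega
    have h15 : cm x ≤ U := by
      rw [← Submodule.eq_of_le_of_finrank_eq inf_le_right h14]
      exact inf_le_left
    have h16 : finrank F U ≠ finrank F W := fun h => ht (Submodule.eq_top_of_finrank_eq h)
    have h17 : finrank F U ≤ finrank F W := Submodule.finrank_le _
    exact (Submodule.eq_of_le_of_finrank_eq h15 (by omega)).symm

end Inv

section Mat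

variable {E : Type u} [Field E]

theorem mem_stab_iff {n : ℕ} {U : Submodule E (Fin n → E)} {h : GL (Fin n) E} :
    h ∈ subspaceStabilizer U ↔ ∀ v, v ∈ U ↔ (h : Matrix (Fin n) (Fin n) E) *ᵥ v ∈ U := Iff.rfl

theorem mul_inv_mulVec {n : ℕ} (h : GL (Fin n) E) (v : Fin n → E) :
    (h : Matrix (Fin n) (Fin n) E) *ᵥ (((h⁻¹ : GL (Fin n) E) : Matrix (Fin n) (Fin n) E) *ᵥ v) = v := by
  rw [Matrix.mulVec_mulVec, ← Units.val_mul, mul_inv_cancel, Units.val_one, Matrix.one_mulVec]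

theorem inv_mul_mulVec {n : ℕ} (h : GL (Fin n) E) (v : Fin n → E) :
    ((h⁻¹ : GL (Fin n) E) : Matrix (Fin n) (Fin n) E) *ᵥ ((h : Matrix (Fin n) (Fin n) E) *ᵥ v) = v := by
  rw [Matrix.mulVec_mulVec, ← Units.val_mul, inv_mul_cancel, Units.val_one, Matrix.one_mulVec]

theorem mulVec_injective {n : ℕ} (h : GL (Fin n) E) :
    Function.Injective (Matrix.toLin' (h : Matrix (Fin n) (Fin n) E)) := by
  intro v w hvw
  rw [Matrix.toLin'_apply, Matrix.toLin'_apply] at hvw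
  have := congrArg (fun z => ((h⁻¹ : GL (Fin n) E) : Matrix (Fin n) (Fin n) E) *ᵥ z) hvw
  simpa only [inv_mul_mulVec] using this

/-- a subgroup normalised by `H` which contains an element of order `r` -/
theorem le_stab_of_normal [Fintype E] {N H : Subgroup (GL (Fin 6) E)} {r : ℕ} (hr : PP (Nat.card E) 5 r) {x : GL (Fin 6) E}
    (hxN : x ∈ N) (hxr : x ^ r = 1) (hx1 : x ≠ 1) (hn : ∀ h ∈ H, ∀ y ∈ N, h⁻¹ * y * h ∈ N)
    {U : Submodule E (Fin 6 → E)} (hU0 : U ≠ ⊥) (hU1 : U ≠ ⊤) (hU : N ≤ subspaceStabilizer U) :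
    H ≤ subspaceStabilizer U := by
  obtain ⟨hf1, hc1, hcases⟩ := inv_five hr (toLin_pow hxr) (toLin_ne hx1)
    (by rw [Module.finrank_fintype_fun_eq_card, Fintype.card_fin])
  have hkey : ∀ h ∈ H, ∀ u ∈ U, (h : Matrix (Fin 6) (Fin 6) E) *ᵥ u ∈ U := by
    intro h hh u hu
    let T : Submodule E (Fin 6 → E) := U.map (Matrix.toLin' (h : Matrix (Fin 6) (Fin 6) E))
    have hdim : finrank E T = finrank E U :=
      (Submodule.equivMapOfInjective _ (mulVec_injective h) _).finrank_eq.symm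
    have hT0 : T ≠ ⊥ := by
      intro h
      have h1 : finrank E T = 0 := by rw [h, finrank_bot]
      rw [hdim] at h1
      exact hU0 (Submodule.finrank_eq_zero.1 h1)
    have hT1 : T ≠ ⊤ := by
      intro h
      rw [h, finrank_top] at hdim
      exact hU1 (Submodule.eq_top_of_finrank_eq hdim.symm)
    have hTinv : Inv (Matrix.toLin' (x : Matrix (Fin 6) (Fin 6) E)) T := by
      rintro _ ⟨w, hw, rfl⟩
      refine ⟨((h⁻¹ * x * h : GL (Fin 6) E) : Matrix (Fin 6) (Fin 6) E) *ᵥ w,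
        (mem_stab_iff.1 (hU (hn h hh x hxN)) w).1 hw, ?_⟩
      rw [Matrix.toLin'_apply, Matrix.toLin'_apply, Matrix.toLin'_apply, Units.val_mul, Units.val_mul,
        ← Matrix.mulVec_mulVec, ← Matrix.mulVec_mulVec, mul_inv_mulVec]
    have hUinv : Inv (Matrix.toLin' (x : Matrix (Fin 6) (Fin 6) E)) U := fun w hw => by
      rw [Matrix.toLin'_apply]
      exact (mem_stab_iff.1 (hU hxN) w).1 hw
    have hTU : T = U := by
      rcases hcases T hTinv hT0 hT1 with h | h <;> rcases hcases U hUinv hU0 hU1 with h' | h'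
      · rw [h, h']
      · exfalso
        rw [h, h', hf1, hc1] at hdim
        omega
      · exfalso
        rw [h, h', hf1, hc1] at hdim
        omega
      · rw [h, h']
    rw [← hTU]
    exact ⟨u, hu, Matrix.toLin'_apply _ _⟩
  intro h hh
  rw [mem_stab_iff]
  intro v
  refine ⟨hkey h hh v, fun hv => ?_⟩
  have := hkey h⁻¹ (H.inv_mem hh) _ hv
  rwa [inv_mul_mulVec] at this

/-- orders prime to the number of scalars divide the order of the automorphism group of the socle -/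
theorem pow_dvd_aut {ι : Type} [Fintype ι] [DecidableEq ι] [Fintype E] {s : ℕ} (hs : Nat.Coprime s (Nat.card E - 1))
    {H P : Subgroup (GL ι E)} (h : IsResidualCore H P) {g : GL ι E} (hg : g ∈ H) (ho : orderOf g = s) {A : Type*} [Group A]
    (e : (P ⧸ (scalars ι E).subgroupOf P) ≃* A) : s ∣ Nat.card (MulAut A) := by
  have h1 := H900.SU4.card_dvd_of_core (B := Subgroup.zpowers g) h (Subgroup.subtype _) (by
    intro b
    obtain ⟨k, hk⟩ := Subgroup.mem_zpowers_iff.1 b.2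
    change (b : GL ι E) ∈ H
    rw [← hk]
    exact H.zpow_mem hg k) (by
    intro b hb
    have hb' : (b : GL ι E) ∈ scalars ι E := hb
    have h2 : orderOf (b : GL ι E) ∣ Nat.card E - 1 := by
      rw [← Subgroup.orderOf_mk (b : GL ι E) hb']
      exact (orderOf_dvd_natCard _).trans H251.GeoCard.card_scalars_dvd
    have h3 : orderOf (b : GL ι E) ∣ s := by
      have h5 := orderOf_dvd_natCard b
      rwa [Nat.card_zpowers, ho, ← Subgroup.orderOf_coe] at h5
    have h4 : orderOf (b : GL ι E) = 1 := Nat.eq_one_of_dvd_coprimes hs h3 h2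
    apply Subtype.ext
    exact orderOf_eq_one_iff.1 h4)
  rwa [Nat.card_zpowers, ho, Nat.card_congr (MulAut.congr e).toEquiv] at h1

end Mat

section U

variable {E : Type u} [Field E] [Fintype E] {q p f r a : ℕ}

theorem ord_neg (hr : PP q 10 r) : orderOf (-(q : ZMod r)) = 5 := by
  have := Fact.mk hr.prime
  have h5 : Fact (Nat.Prime 5) := ⟨by norm_num⟩
  have h1 : (q : ZMod r) ^ 10 = 1 := by rw [← hr.ord]; exact pow_orderOf_eq_one _
  have h2 : (q : ZMod r) ^ 5 ≠ 1 := fun h => by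
    have := orderOf_dvd_of_pow_eq_one h
    rw [hr.ord] at this
    omega
  have h3 : (q : ZMod r) ^ 5 = -1 := by
    have h4 : ((q : ZMod r) ^ 5 - 1) * ((q : ZMod r) ^ 5 + 1) = 0 := by
      linear_combination h1
    rcases mul_eq_zero.1 h4 with h | h
    · exact absurd (sub_eq_zero.1 h) h2
    · exact eq_neg_of_add_eq_zero_left h
  apply orderOf_eq_prime
  · have : (-(q : ZMod r)) ^ 5 = -((q : ZMod r) ^ 5) := by ring
    rw [this, h3, neg_neg]
  · intro h
    have h4 : (q : ZMod r) ^ 2 = 1 := by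
      have h6 : (q : ZMod r) = -1 := by linear_combination (-1 : ZMod r) * h
      rw [h6]; ring
    have := orderOf_dvd_of_pow_eq_one h4
    rw [hr.ord] at this
    omega

omit [Fintype E] in
theorem unit_eq_one [Finite E] {c : Eˣ} {N : ℕ} (hN : c ^ N = 1) (hco : Nat.Coprime N (Nat.card E - 1)) : c = 1 := by
  have h3 : c ^ (Nat.card E - 1) = 1 := by
    rw [← Nat.card_units]; exact pow_card_eq_one'
  exact orderOf_eq_one_iff.1 (Nat.eq_one_of_dvd_coprimes hco (orderOf_dvd_of_pow_eq_one hN) (orderOf_dvd_of_pow_eq_one h3))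

theorem fixes_of_sim {n : ℕ} {f' : (Fin n → E) → (Fin n → E) → E} (hex : ∃ u v, f' u v ≠ 0)
    {g : GL (Fin n) E} (hg : g ∈ similarityGroup f') {N : ℕ} (hN : g ^ N = 1) (hco : Nat.Coprime N (Nat.card E - 1)) :
    ∀ u v, f' ((g : Matrix (Fin n) (Fin n) E) *ᵥ u) ((g : Matrix (Fin n) (Fin n) E) *ᵥ v) = f' u v := by
  obtain ⟨c, hc⟩ := hg
  have h1 : ∀ k : ℕ, ∀ u v, f' (((g ^ k : GL (Fin n) E) : Matrix (Fin n) (Fin n) E) *ᵥ u)
      (((g ^ k : GL (Fin n) E) : Matrix (Fin n) (Fin n) E) *ᵥ v) = (c : E) ^ k * f' u v := by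
    intro k
    induction k with
    | zero => intro u v; simp
    | succ k ih =>
      intro u v
      rw [pow_succ', Units.val_mul, ← Matrix.mulVec_mulVec, ← Matrix.mulVec_mulVec, hc, ih, pow_succ', mul_assoc]
  obtain ⟨u, v, huv⟩ := hex
  have h2 : c ^ N = 1 := by
    apply Units.ext
    have h4 := h1 N u v
    rw [hN, Units.val_one, Matrix.one_mulVec, Matrix.one_mulVec] at h4
    rw [Units.val_pow_eq_pow_val, Units.val_one]
    exact (mul_eq_right₀ huv).1 h4.symm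
  intro u v
  rw [hc, unit_eq_one h2 hco, Units.val_one, one_mul]

theorem det_one {n : ℕ} {g : GL (Fin n) E} {N : ℕ} (hN : g ^ N = 1) (hco : Nat.Coprime N (Nat.card E - 1)) :
    g ∈ specialLinear (Fin n) E := by
  have h1 : (Matrix.GeneralLinearGroup.det g) ^ N = 1 := by rw [← map_pow, hN, map_one]
  exact unit_eq_one h1 hco

theorem top_of_sup_center {G : Type*} [Group G] (hper : commutator G = ⊤) {A : Subgroup G}
    (h : A ⊔ Subgroup.center G = ⊤) : A = ⊤ := by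
  rw [eq_top_iff, ← hper, commutator_def, Subgroup.commutator_le]
  intro x _ y _
  obtain ⟨a, ha, z, hz, rfl⟩ := Subgroup.mem_sup_of_normal_right.1 (h ▸ Subgroup.mem_top x : x ∈ A ⊔ Subgroup.center G)
  obtain ⟨b, hb, w, hw, rfl⟩ := Subgroup.mem_sup_of_normal_right.1 (h ▸ Subgroup.mem_top y : y ∈ A ⊔ Subgroup.center G)
  have hz' := Subgroup.mem_center_iff.1 hz
  have hw' := Subgroup.mem_center_iff.1 hw
  have : ⁅a * z, b * w⁆ = ⁅a, b⁆ := by
    rw [commutatorElement_def, commutatorElement_def, mul_inv_rev, mul_inv_rev]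
    have e1 : a * z * (b * w) * (z⁻¹ * a⁻¹) * (w⁻¹ * b⁻¹) = a * (z * (b * w) * z⁻¹) * a⁻¹ * w⁻¹ * b⁻¹ := by group
    rw [e1, ← hz' (b * w), mul_assoc (b * w) z z⁻¹, mul_inv_cancel, mul_one]
    have e2 : a * (b * w) * a⁻¹ * w⁻¹ * b⁻¹ = a * b * (w * a⁻¹ * w⁻¹) * b⁻¹ := by group
    rw [e2, ← hw' a⁻¹, mul_assoc a⁻¹ w w⁻¹, mul_inv_cancel, mul_one]
  rw [this]
  exact A.mul_mem (A.mul_mem (A.mul_mem ha hb) (A.inv_mem ha)) (A.inv_mem hb)

open Cfsg.Agent.H251.GeoU (pre pre_le pre_proper)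
open Cfsg.Agent.H729.CovU (geo_over isMaximalIn_pre)

theorem coprime_pow {i : ℕ} (h3 : 3 ≤ q) (hr : PP q 10 r) (hi : 1 ≤ i) (hi' : i < 10) (a : ℕ) :
    Nat.Coprime (r ^ a) (q ^ i - 1) := by
  refine Nat.Coprime.pow_left a ((Nat.Prime.coprime_iff_not_dvd hr.prime).2 fun h => ?_)
  have h1 := (hr.dvd_iff (by omega) i).1 h
  have := Nat.le_of_dvd (by omega) h1
  omega

omit [Fintype E] in
theorem exists_ne_zero : ∃ u v : Fin 6 → E, hermForm 6 E q u v ≠ 0 := by
  refine ⟨Pi.single 0 1, Pi.single 0 1, ?_⟩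
  unfold hermForm
  rw [Finset.sum_eq_single 0]
  · simp
  · intro i _ hi
    rw [Pi.single_eq_of_ne hi]
    simp
  · intro h
    exact absurd (Finset.mem_univ _) h

theorem kill_l211 (h11 : r = 11) (hbig : 21 < r ^ a)
    (h : r ^ a ∣ Nat.card (MulAut (Matrix.ProjectiveSpecialLinearGroup (Fin 2) (ZMod 11)))) : False := by
  subst h11
  have h1 := h.trans H269.U5.card_aut_l211
  have h2 : 2 ≤ a := by
    by_contra hcon
    have h3 : a = 0 ∨ a = 1 := by omega
    rcases h3 with rfl | rfl <;> norm_num at hbig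
  have h3 := (pow_dvd_pow 11 h2).trans h1
  norm_num at h3

/-- the unitary case -/
theorem su_le (hR : H680.Cov.SU6.R5803 E q) (hE : Fintype.card E = q ^ 2) (h3 : 3 ≤ q) (hp : p.Prime) (hf : 1 ≤ f)
    (hq : q = p ^ f) (hr : PP p (f * 10) r) {H : Subgroup (GL (Fin 6) E)} (hred : ¬ Red H)
    (hsim : H ⊓ specialLinear (Fin 6) E ≤ similarityGroup (hermForm 6 E q)) {g : GL (Fin 6) E} (hg : g ∈ H)
    (ho : orderOf g = r ^ a) (hbig : 21 < r ^ a) : Cfsg.GU 6 E q ⊓ specialLinear (Fin 6) E ≤ H := by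
  classical
  by_contra hnot
  have hrq : PP q 10 r := by rw [hq]; exact PP.of_pow hr hf
  have hcE : Nat.card E = q ^ 2 := by rw [Nat.card_eq_fintype_card, hE]
  have hrE : PP (Nat.card E) 5 r := by rw [hcE]; exact PP.of_pow (a := 2) (d := 5) hrq (by norm_num)
  have hco : Nat.Coprime (r ^ a) (Nat.card E - 1) := by
    rw [hcE]; exact coprime_pow h3 hrq (by norm_num) (by norm_num) a
  have hco1 : Nat.Coprime r (Nat.card E - 1) := by
    have := coprime_pow h3 hrq (i := 2) (by norm_num) (by norm_num) 1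
    rwa [pow_one, ← hcE] at this
  have hr11 : 11 ≤ r := by have := hrq.lt (by norm_num); omega
  -- `g` is an isometry of determinant one
  have hgN : g ^ (r ^ a) = 1 := by rw [← ho, pow_orderOf_eq_one]
  have hgS : g ∈ specialLinear (Fin 6) E := det_one hgN hco
  have hgU : g ∈ Cfsg.GU 6 E q := by
    rw [H918.mem_GU]
    exact fixes_of_sim exists_ne_zero (hsim ⟨hg, hgS⟩) hgN hco
  obtain ⟨x, hxH, hxr, hx1, k, hk⟩ := exists_prime_pow hg hr.prime ho (by omega)
  have hxS : x ∈ specialLinear (Fin 6) E := by rw [hk]; exact Subgroup.pow_mem _ hgS _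
  have hxU : x ∈ Cfsg.GU 6 E q := by rw [hk]; exact Subgroup.pow_mem _ hgU _
  -- reducibility goes up
  have hup : ∀ W : Submodule E (Fin 6 → E), W ≠ ⊥ → W ≠ ⊤ →
      H ⊓ (Cfsg.GU 6 E q ⊓ specialLinear (Fin 6) E) ≤ subspaceStabilizer W → False := by
    intro W hW0 hW1 hle
    have h1 : H ⊓ specialLinear (Fin 6) E ≤ subspaceStabilizer W := by
      refine le_stab_of_normal hrE (N := H ⊓ (Cfsg.GU 6 E q ⊓ specialLinear (Fin 6) E)) ⟨hxH, hxU, hxS⟩ hxr hx1 ?_
        hW0 hW1 hle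
      intro h hh y hy
      refine ⟨H.mul_mem (H.mul_mem (H.inv_mem hh.1) hy.1) hh.1, ?_, Subgroup.mul_mem _ (Subgroup.mul_mem _
        (Subgroup.inv_mem _ hh.2) hy.2.2) hh.2⟩
      change h⁻¹ * y * h ∈ Cfsg.GU 6 E q
      rw [H918.mem_GU]
      intro u v
      obtain ⟨c, hc⟩ := hsim hh
      apply mul_left_cancel₀ c.ne_zero
      rw [← hc, ← hc, Units.val_mul, Units.val_mul, ← Matrix.mulVec_mulVec, ← Matrix.mulVec_mulVec,
        ← Matrix.mulVec_mulVec, ← Matrix.mulVec_mulVec, mul_inv_mulVec, mul_inv_mulVec]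
      exact H918.mem_GU.1 hy.2.1 _ _
    refine hred ⟨W, hW0, hW1, le_stab_of_normal hrE (N := H ⊓ specialLinear (Fin 6) E) ⟨hxH, hxS⟩ hxr hx1 ?_ hW0 hW1 h1⟩
    intro h hh y hy
    refine ⟨H.mul_mem (H.mul_mem (H.inv_mem hh) hy.1) hh, ?_⟩
    have h2 : Matrix.GeneralLinearGroup.det y = 1 := hy.2
    show Matrix.GeneralLinearGroup.det (h⁻¹ * y * h) = 1
    rw [map_mul, map_mul, h2, mul_one, map_inv, inv_mul_cancel]
  -- the maximal subgroup
  let A : Subgroup (SU 6 E q) := H.comap (H918.suHom 6 E q)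
  let π := QuotientGroup.mk' (Subgroup.center (SU 6 E q))
  have hM0 : A.map π ≠ ⊤ := by
    intro h
    have h1 : A ⊔ Subgroup.center (SU 6 E q) = ⊤ := by
      have h2 := Subgroup.comap_map_eq π A
      rw [h, Subgroup.comap_top, QuotientGroup.ker_mk'] at h2
      exact h2.symm
    have h2 := top_of_sup_center (LieClassical.HermPerfect.commutator_SU_eq_top hE (by norm_num) (by norm_num)) h1
    apply hnot
    intro y hy
    obtain ⟨B, rfl⟩ := H918.exists_suHom hy
    have : B ∈ A := by rw [h2]; trivial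
    exact this
  obtain ⟨M, hM, hle⟩ := (eq_top_or_exists_le_coatom (A.map π)).resolve_left hM0
  have hpre : H ⊓ (Cfsg.GU 6 E q ⊓ specialLinear (Fin 6) E) ≤ pre M := by
    rintro y ⟨hyH, hy⟩
    obtain ⟨B, rfl⟩ := H918.exists_suHom hy
    exact ⟨B, hle ⟨B, hyH, rfl⟩, rfl⟩
  have hgM : g ∈ pre M := hpre ⟨hg, hgU, hgS⟩
  have hxM : x ∈ pre M := hpre ⟨hxH, hxU, hxS⟩
  have hfr := Fact.mk hr.prime
  have hxo : orderOf x = r := orderOf_eq_prime hxr hx1
  rcases S5663.result (F := E) 6 q hE (by norm_num) (by norm_num) (pre M) (pre_le M) (pre_proper M hM.1) with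
    ⟨X, hX, hXle⟩ | hres
  · have hrX : r ∣ Nat.card X := by
      rw [← hxo, ← Subgroup.orderOf_mk x (hXle hxM)]
      exact orderOf_dvd_natCard _
    rcases geo_over hE hp hq hf hr.prime (m := 5) (fun k => by
        rw [hr.dvd_iff hp.one_lt.le, show 2 * 5 * f = f * 10 by ring]) (ord_neg hrq) ⟨2, rfl⟩
        (by norm_num) (by norm_num) (by omega) hX hrX with
      ⟨W, h1, h2, h3', rfl⟩ | ⟨W, h1, h2, h3', h4, rfl⟩ | ⟨s, K, h1, h2, h3', h4, h5, rfl⟩
    · apply h1
      rw [← Submodule.finrank_eq_zero (R := E)]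
      omega
    · refine hup W h1 ?_ (hpre.trans (hXle.trans inf_le_left))
      rintro rfl
      rw [finrank_top, Module.finrank_fintype_fun_eq_card, Fintype.card_fin] at h3'
      omega
    · have h7 := (Nat.prime_dvd_prime_iff_eq h1 Nat.prime_five).1 h4
      subst h7
      norm_num at h3'
  · obtain ⟨P, hc, h | h | h | h | h | h⟩ := hR _ (isMaximalIn_pre hM) hres
    · obtain ⟨⟨e⟩, -⟩ := h
      have h1 := pow_dvd_aut hco hc hgM ho e
      have h2 := H680.Cov.SU6.aut_l211 hr.prime (by omega) (pow_dvd_aut hco1 hc hxM hxo e)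
      exact kill_l211 h2 hbig h1
    · obtain ⟨⟨e⟩, -⟩ := h
      have := H680.Cov.SU6.aut_a7 hr.prime (by omega) (pow_dvd_aut hco1 hc hxM hxo e)
      omega
    · obtain ⟨⟨K, _, _, hK, ⟨e⟩⟩, -⟩ := h
      have := H680.Cov.SU6.aut_l34 hr.prime (by omega) hK (pow_dvd_aut hco1 hc hxM hxo e)
      omega
    · obtain ⟨-, h2⟩ := h
      omega
    · obtain ⟨⟨K, _, _, hK, ⟨e⟩⟩, -⟩ := h
      have := H680.Cov.SU6.aut_u43 hr.prime (by omega) hK (pow_dvd_aut hco1 hc hxM hxo e)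
      omega
    · obtain ⟨⟨e⟩, -⟩ := h
      refine H680.Cov.SU6.aut_u3 hE h3 hp hq hf hr.prime (by omega) (ord_neg hrq) (by norm_num) ?_
        (pow_dvd_aut hco1 hc hxM hxo e)
      intro h1
      have h2 := Nat.le_of_dvd (by omega) h1
      have h4 := hr.lt (by omega)
      omega

end U

/-- the text of S5800 -/
def R5800 (F : Type u) [Field F] [Fintype F] : Prop :=
  ∀ (H : Subgroup (Matrix.GeneralLinearGroup (Fin 6) F)) (_ : Cfsg.Geo.IsMaximalIn (Cfsg.Geo.specialLinear (Fin 6) F) H) (_ : Cfsg.Geo.InLinearResidualClass H),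
    ∃ (P : Subgroup (Matrix.GeneralLinearGroup (Fin 6) F)) (p : ℕ), Cfsg.Geo.IsResidualCore H P ∧ p.Prime ∧ CharP F p ∧
    ((Nonempty ((P ⧸ (Cfsg.Geo.scalars (Fin 6) F).subgroupOf P) ≃* Matrix.ProjectiveSpecialLinearGroup (Fin 2) (ZMod 11)) ∧ Fintype.card F = p ∧ p ≠ 3 ∧ (p % 11 = 1 ∨ p % 11 = 3 ∨ p % 11 = 4 ∨ p % 11 = 5 ∨ p % 11 = 9)) ∨
     (Nonempty ((P ⧸ (Cfsg.Geo.scalars (Fin 6) F).subgroupOf P) ≃* alternatingGroup (Fin 7)) ∧ ((Fintype.card F = p ∧ (p % 24 = 1 ∨ p % 24 = 7)) ∨ (Fintype.card F = p ^ 2 ∧ (p % 24 = 5 ∨ p % 24 = 11 ∨ p % 24 = 13 ∨ p % 24 = 19)))) ∨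
     ((∃ (K : Type) (_ : Field K) (_ : Fintype K), Fintype.card K = 4 ∧ Nonempty ((P ⧸ (Cfsg.Geo.scalars (Fin 6) F).subgroupOf P) ≃* Matrix.ProjectiveSpecialLinearGroup (Fin 3) K)) ∧ Fintype.card F = p ∧ (p % 24 = 1 ∨ p % 24 = 19)) ∨
     (Cfsg.Spor.IsoM12 (P ⧸ (Cfsg.Geo.scalars (Fin 6) F).subgroupOf P) ∧ Fintype.card F = 3) ∨
     ((∃ (K : Type) (_ : Field K) (_ : Fintype K), Fintype.card K = 9 ∧ Nonempty ((P ⧸ (Cfsg.Geo.scalars (Fin 6) F).subgroupOf P) ≃* Cfsg.PSU 4 K 3)) ∧ Fintype.card F = p ∧ (p % 12 = 1 ∨ p % 12 = 7)) ∨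
     (Nonempty ((P ⧸ (Cfsg.Geo.scalars (Fin 6) F).subgroupOf P) ≃* Matrix.ProjectiveSpecialLinearGroup (Fin 3) F) ∧ Odd (Fintype.card F)))

section Lin

/-- the primes of `|Aut PSL₃(K)|` -/
theorem prime_l3 {K : Type*} [Field K] [Fintype K] {p f u : ℕ} (hp : p.Prime) (hf : 1 ≤ f)
    (hK : Fintype.card K = p ^ f) (hu : u.Prime)
    (h : u ∣ Nat.card (MulAut (Matrix.ProjectiveSpecialLinearGroup (Fin 3) K))) :
    u = 2 ∨ u ∣ f ∨ u = p ∨ ∃ i : ℕ, 1 ≤ i ∧ i ≤ 3 ∧ u ∣ Fintype.card K ^ i - 1 := by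
  have : Fact p.Prime := ⟨hp⟩
  rw [Cfsg.Agent.S0813.result (F := K) p f hf hK 3 (by norm_num) (by norm_num)] at h
  rw [if_neg (by norm_num : ¬ (3 : ℕ) = 2)] at h
  have h2 : Nat.card (Matrix.ProjGenLinGroup (Fin 3) K) ∣ Nat.card (GL (Fin 3) K) := Subgroup.card_quotient_dvd_card _
  have hq : 1 ≤ Fintype.card K := Fintype.card_pos
  have h3 : Nat.card (GL (Fin 3) K) =
      (Fintype.card K ^ 3 - 1) * (Fintype.card K * (Fintype.card K ^ 2 - 1)) *
        (Fintype.card K ^ 2 * (Fintype.card K ^ 1 - 1)) := by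
    rw [Matrix.card_GL_field]
    simp only [Fin.prod_univ_three, Fin.val_zero, Fin.val_one, Fin.val_two]
    congr 1
    · congr 1
      rw [Nat.mul_sub, mul_one]
      congr 1
      · ring
      · ring
    · rw [Nat.mul_sub, mul_one]
      congr 1
      ring
  have h4 := h.trans (mul_dvd_mul_left (2 * f) h2)
  rw [h3] at h4
  have hq2 : ∀ m : ℕ, u ∣ Fintype.card K ^ m → u = p := by
    intro m hm
    rw [hK] at hm
    exact (Nat.prime_dvd_prime_iff_eq hu hp).1 (hu.dvd_of_dvd_pow (hu.dvd_of_dvd_pow hm))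
  rcases (hu.dvd_mul).1 h4 with h5 | h5
  · rcases (hu.dvd_mul).1 h5 with h6 | h6
    · exact Or.inl ((Nat.prime_dvd_prime_iff_eq hu Nat.prime_two).1 h6)
    · exact Or.inr (Or.inl h6)
  · right; right
    rcases (hu.dvd_mul).1 h5 with h6 | h6
    · rcases (hu.dvd_mul).1 h6 with h7 | h7
      · exact Or.inr ⟨3, by norm_num, by norm_num, h7⟩
      · rcases (hu.dvd_mul).1 h7 with h8 | h8
        · exact Or.inl (hq2 1 (by rwa [pow_one]))
        · exact Or.inr ⟨2, by norm_num, by norm_num, h8⟩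
    · rcases (hu.dvd_mul).1 h6 with h7 | h7
      · exact Or.inl (hq2 2 h7)
      · exact Or.inr ⟨1, by norm_num, by norm_num, h7⟩


theorem not_red_conj {E : Type u} [Field E] {n : ℕ} {H : Subgroup (GL (Fin n) E)} (hred : ¬ Red H) (P : GL (Fin n) E) :
    ¬ Red (H.comap (MulAut.conj P).toMonoidHom) := by
  rintro ⟨W, h0, h1, hle⟩
  have hmem : ∀ v, v ∈ W.comap (Matrix.toLin' ((P⁻¹ : GL (Fin n) E) : Matrix (Fin n) (Fin n) E)) ↔
      ((P⁻¹ : GL (Fin n) E) : Matrix (Fin n) (Fin n) E) *ᵥ v ∈ W := fun v => by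
    rw [Submodule.mem_comap, Matrix.toLin'_apply]
  refine hred ⟨W.comap (Matrix.toLin' ((P⁻¹ : GL (Fin n) E) : Matrix (Fin n) (Fin n) E)), ?_, ?_, ?_⟩
  · intro h
    apply h0
    rw [Submodule.eq_bot_iff]
    intro w hw
    have h2 : (P : Matrix (Fin n) (Fin n) E) *ᵥ w ∈
        W.comap (Matrix.toLin' ((P⁻¹ : GL (Fin n) E) : Matrix (Fin n) (Fin n) E)) := by
      rw [hmem, inv_mul_mulVec]; exact hw
    rw [h, Submodule.mem_bot] at h2
    rw [← inv_mul_mulVec P w, h2, Matrix.mulVec_zero]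
  · intro h
    apply h1
    rw [eq_top_iff]
    intro w _
    have h2 : (P : Matrix (Fin n) (Fin n) E) *ᵥ w ∈
        W.comap (Matrix.toLin' ((P⁻¹ : GL (Fin n) E) : Matrix (Fin n) (Fin n) E)) := by rw [h]; trivial
    rwa [hmem, inv_mul_mulVec] at h2
  · intro y hy
    rw [mem_stab_iff]
    intro v
    rw [hmem, hmem]
    have h2 : P⁻¹ * y * P ∈ H.comap (MulAut.conj P).toMonoidHom := by
      change P * (P⁻¹ * y * P) * P⁻¹ ∈ H
      have : P * (P⁻¹ * y * P) * P⁻¹ = y := by group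
      rwa [this]
    have h3 := (mem_stab_iff.1 (hle h2)) (((P⁻¹ : GL (Fin n) E) : Matrix (Fin n) (Fin n) E) *ᵥ v)
    rw [h3, Units.val_mul, Units.val_mul, ← Matrix.mulVec_mulVec, ← Matrix.mulVec_mulVec, mul_inv_mulVec]

variable {E : Type} [Field E] [Fintype E] {q p f r a : ℕ}

/-- the list in dimension six -/
theorem mat_six (hR0 : R5800 E) (hR : H680.Cov.SU6.R5803 E q) (hE : Fintype.card E = q ^ 2) (h3 : 3 ≤ q) (hp : p.Prime)
    (hf : 1 ≤ f) (hq : q = p ^ f) (hr : PP p (f * 10) r) {H : Subgroup (GL (Fin 6) E)} (hred : ¬ Red H)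
    {g : GL (Fin 6) E} (hg : g ∈ H) (ho : orderOf g = r ^ a) (hbig : 21 < r ^ a) :
    specialLinear (Fin 6) E ≤ H ∨
      ∃ P : GL (Fin 6) E, ∀ x ∈ Cfsg.GU 6 E q ⊓ specialLinear (Fin 6) E, P * x * P⁻¹ ∈ H := by
  classical
  by_cases hS : specialLinear (Fin 6) E ≤ H
  · exact Or.inl hS
  right
  have hrq : PP q 10 r := by rw [hq]; exact PP.of_pow hr hf
  have hcE : Nat.card E = q ^ 2 := by rw [Nat.card_eq_fintype_card, hE]
  have hrE : PP (Nat.card E) 5 r := by rw [hcE]; exact PP.of_pow (a := 2) (d := 5) hrq (by norm_num)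
  have hco : Nat.Coprime (r ^ a) (Nat.card E - 1) := by
    rw [hcE]; exact coprime_pow h3 hrq (by norm_num) (by norm_num) a
  have hco1 : Nat.Coprime r (Nat.card E - 1) := by
    have := coprime_pow h3 hrq (i := 2) (by norm_num) (by norm_num) 1
    rwa [pow_one, ← hcE] at this
  have hr11 : 11 ≤ r := by have := hrq.lt (by norm_num); omega
  have hrf : 10 * f < r := by have := hr.lt (by omega); omega
  have hgN : g ^ (r ^ a) = 1 := by rw [← ho, pow_orderOf_eq_one]
  have hgS : g ∈ specialLinear (Fin 6) E := det_one hgN hco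
  obtain ⟨x, hxH, hxr, hx1, k, hk⟩ := exists_prime_pow hg hr.prime ho (by omega)
  have hxS : x ∈ specialLinear (Fin 6) E := by rw [hk]; exact Subgroup.pow_mem _ hgS _
  have hfr := Fact.mk hr.prime
  have hxo : orderOf x = r := orderOf_eq_prime hxr hx1
  have hcE2 : Fintype.card E = p ^ (2 * f) := by rw [hE, hq, ← pow_mul, mul_comm]
  have hud : r ∣ Nat.card (H ⊓ specialLinear (Fin 6) E : Subgroup (GL (Fin 6) E)) := by
    have hxR : x ∈ H ⊓ specialLinear (Fin 6) E := ⟨hxH, hxS⟩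
    rw [← hxo, ← Subgroup.orderOf_mk x hxR]
    exact orderOf_dvd_natCard _
  rcases H592.Rl.classes9 (n := 6) (k := 5) (f := 2 * f) (by norm_num) (by norm_num) (by norm_num) (by norm_num) hp hcE2
    hr.prime (by rw [hr.ord]; ring) (R := H ⊓ specialLinear (Fin 6) E) inf_le_right
    (fun h => hS (h.trans inf_le_left)) hud with
    ⟨-, W, hW, hle⟩ | hout | ⟨-, h, -⟩ | ⟨h, -⟩ | ⟨M, hM, hle, hres⟩
  · exfalso
    have hf6 : finrank E (Fin 6 → E) = 6 := by rw [Module.finrank_fintype_fun_eq_card, Fintype.card_fin]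
    have hW0 : W ≠ ⊥ := by
      rintro rfl
      rw [finrank_bot] at hW
      omega
    have hW1 : W ≠ ⊤ := by
      rintro rfl
      rw [finrank_top, hf6] at hW
      omega
    refine hred ⟨W, hW0, hW1, le_stab_of_normal hrE (N := H ⊓ specialLinear (Fin 6) E) ⟨hxH, hxS⟩ hxr hx1 ?_ hW0 hW1 hle⟩
    intro h hh y hy
    refine ⟨H.mul_mem (H.mul_mem (H.inv_mem hh) hy.1) hh, ?_⟩
    have h2 : Matrix.GeneralLinearGroup.det y = 1 := hy.2
    show Matrix.GeneralLinearGroup.det (h⁻¹ * y * h) = 1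
    rw [map_mul, map_mul, h2, mul_one, map_inv, inv_mul_cancel]
  · rcases hout with ⟨s, K, hs, h1, h2, -⟩ | ⟨h, -⟩ | ⟨h, -⟩ | ⟨-, σ, f', hf', hle⟩
    · exfalso
      have h7 := (Nat.prime_dvd_prime_iff_eq hs Nat.prime_five).1 h2
      subst h7
      rw [Fintype.card_fin] at h1
      norm_num at h1
    · exact absurd h (by decide)
    · exact absurd h (by decide)
    · obtain ⟨q₁, hq₁, hσ⟩ := H895.SLT.unitary_sigma hf'.involutive hf'.ne_refl
      have hqq : q₁ = q := Nat.pow_left_injective (by norm_num : (2 : ℕ) ≠ 0) (hq₁.symm.trans hE)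
      subst hqq
      have hf'' : IsUnitaryFormPow q₁ f' :=
        ⟨hf'.add_left, hf'.smul_left, fun v w => by rw [← hσ]; exact hf'.herm v w, hf'.nondegenerate⟩
      obtain ⟨P, hP⟩ := H956.UnitSim.exists_frame hE hf''
      refine ⟨P, fun y hy => ?_⟩
      refine su_le (H := H.comap (MulAut.conj P).toMonoidHom) hR hE h3 hp hf hq hr (not_red_conj hred P) ?_
        (g := P⁻¹ * g * P) ?_ ?_ hbig hy
      · rintro y ⟨hy1, hy2⟩
        have h1 : P * y * P⁻¹ ∈ H ⊓ specialLinear (Fin 6) E := by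
          refine ⟨hy1, ?_⟩
          have h2 : Matrix.GeneralLinearGroup.det y = 1 := hy2
          show Matrix.GeneralLinearGroup.det (P * y * P⁻¹) = 1
          rw [map_mul, map_mul, h2, mul_one, map_inv, mul_inv_cancel]
        obtain ⟨c, hc⟩ := hle h1
        refine ⟨c, fun u v => ?_⟩
        rw [← hP u v, ← hP, ← hc, Units.val_mul, Units.val_mul, ← Matrix.mulVec_mulVec, ← Matrix.mulVec_mulVec,
          ← Matrix.mulVec_mulVec, ← Matrix.mulVec_mulVec, inv_mul_mulVec, inv_mul_mulVec]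
      · change P * (P⁻¹ * g * P) * P⁻¹ ∈ H
        have : P * (P⁻¹ * g * P) * P⁻¹ = g := by group
        rwa [this]
      · rw [← ho]
        have : P⁻¹ * g * P = MulAut.conj P⁻¹ g := by rw [MulAut.conj_apply, inv_inv]
        rw [this]
        exact MulEquiv.orderOf_eq _ _
  · omega
  · omega
  · exfalso
    have hxM : x ∈ M := hle ⟨hxH, hxS⟩
    have hsq : ∀ p', p'.Prime → Fintype.card E ≠ p' := by
      intro p' hp' h
      rw [hE] at h
      rw [← h] at hp'
      exact Nat.Prime.not_prime_pow le_rfl hp'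
    obtain ⟨P, p', hc, hp', -, h | h | h | h | h | h⟩ := hR0 _ hM hres
    · exact hsq p' hp' h.2.1
    · obtain ⟨⟨e⟩, -⟩ := h
      have := H680.Cov.SU6.aut_a7 hr.prime (by omega) (pow_dvd_aut hco1 hc hxM hxo e)
      omega
    · exact hsq p' hp' h.2.1
    · have h4 := h.2
      rw [hE] at h4
      nlinarith
    · exact hsq p' hp' h.2.1
    · obtain ⟨⟨e⟩, -⟩ := h
      rcases prime_l3 hp (by omega : 1 ≤ 2 * f) hcE2 hr.prime (pow_dvd_aut hco1 hc hxM hxo e) with h | h | h | ⟨i, h1, h2, h⟩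
      · omega
      · have := Nat.le_of_dvd (by omega) h
        omega
      · apply hr.not_dvd (by omega)
        rw [h]
      · have h5 := (hrE.dvd_iff Nat.card_pos i).1 (by rw [Nat.card_eq_fintype_card]; exact h)
        have := Nat.le_of_dvd (by omega) h5
        omega

end Lin

section Main

open Cfsg.Agent.H948.UProd (ph card_SU)

/-- the order of `SU_6(q)` -/
theorem pow_dvd_su {E : Type u} [Field E] [Fintype E] {q : ℕ} (hE : Fintype.card E = q ^ 2) {t b : ℕ} (ht : PP q 6 t)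
    (h3 : 3 ≤ q) (hb : t ^ b ∣ q ^ 6 - 1) : t ^ (2 * b) ∣ Nat.card (SU 6 E q) := by
  rw [card_SU hE (by norm_num)]
  apply Dvd.dvd.mul_left
  have h0 : (∏ i ∈ Finset.range (6 - 1), ph q (i + 1)) = (ph q 1 * ph q 3 * ph q 4) * (ph q 2 * ph q 5) := by
    simp only [Finset.prod_range_succ, Finset.prod_range_zero, show 6 - 1 = 5 from rfl]
    ring
  rw [h0]
  apply Dvd.dvd.mul_left
  rw [two_mul, pow_add]
  have h5 : ph q 5 = q ^ 6 - 1 := by unfold ph; rw [if_neg (by decide)]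
  have h2 : ph q 2 = q ^ 3 + 1 := by unfold ph; rw [if_pos (by decide)]
  rw [h5, h2]
  refine mul_dvd_mul ?_ hb
  have h6 : q ^ 6 - 1 = (q ^ 3 + 1) * (q ^ 3 - 1) := by
    have := Nat.sq_sub_sq (q ^ 3) 1
    rw [one_pow, ← pow_mul] at this
    exact this
  rw [h6] at hb
  refine Nat.Coprime.dvd_of_dvd_mul_right (Nat.Coprime.pow_left b ((Nat.Prime.coprime_iff_not_dvd ht.prime).2 fun h => ?_)) hb
  have h7 := (ht.dvd_iff (by omega) 3).1 h
  omega

variable {F : Type} [Field F] [Fintype F] {V : Type v} [AddCommGroup V] [Module F V] [FiniteDimensional F V]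
  {Q : QuadraticForm F V} {H A : Subgroup (V ≃ₗ[F] V)}

theorem kext_six_core (hR0 : ∀ (E : Type) [Field E] [Fintype E], R5800 E)
    (hR : ∀ (E : Type) [Field E] [Fintype E] (q : ℕ), Fintype.card E = q ^ 2 → H680.Cov.SU6.R5803 E q)
    {p f r a : ℕ} (h3 : 3 ≤ p ^ f) (hn : finrank F V = 12)
    (hirr : ∀ W : Submodule F V, (∀ a ∈ A, ∀ w ∈ W, a w ∈ W) → W = ⊥ ∨ W = ⊤) (hK : AExt 2 A)
    (hp : p.Prime) (hF : Fintype.card F = p ^ f) (hr : PP p (f * 10) r)
    {g : V ≃ₗ[F] V} (hg : g ∈ A) (ho : orderOf g = r ^ a) (hbig : 21 < r ^ a) :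
    (∀ t, PP (p ^ f) 8 t → t ∣ Nat.card A) ∨
      (∀ t b, PP (p ^ f) 6 t → t ^ b ∣ (p ^ f) ^ 6 - 1 → t ^ (2 * b) ∣ Nat.card A) := by
  obtain ⟨n, φ₀, K, -, hKf, hle⟩ := hK
  have hn' := finrank_of_equiv φ₀
  have hn2 : n = 2 * 6 := by omega
  obtain ⟨E, iE, iFE, hE, ⟨φ⟩⟩ := exists_fr hKf hn2 (by norm_num) (by omega)
  have hf : 1 ≤ f := by
    rcases Nat.eq_zero_or_pos f with h | h
    · exfalso
      rw [h, pow_zero] at hF
      have := Fintype.one_lt_card (α := F)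
      omega
    · exact h
  set B := A.map (cj φ₀).toMonoidHom with hB
  have hcard : Nat.card B = Nat.card A := Subgroup.card_map_of_injective (cj φ₀).injective
  have hgB : cj φ₀ g ∈ B := ⟨g, hg, rfl⟩
  have hgo : orderOf (cj φ₀ g) = r ^ a := by rw [MulEquiv.orderOf_eq, ho]
  have hne : Nonempty (Fin n) := ⟨⟨0, by omega⟩⟩
  have hrF : PP (Nat.card F) 10 r := by
    rw [Nat.card_eq_fintype_card, hF]
    exact PP.of_pow hr hf
  have hr2 : r ≠ 2 := by
    have := hrF.lt (by omega)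
    omega
  obtain ⟨x, hxB, hxr, hx1, k, hk⟩ := exists_prime_pow hgB hr.prime hgo (by omega)
  have hco : Nat.Coprime (orderOf x) 2 :=
    Nat.Coprime.coprime_dvd_left (orderOf_dvd_of_pow_eq_one hxr) ((Nat.coprime_primes hr.prime Nat.prime_two).2 hr2)
  have hred : ¬ Red (low φ B) := not_red_even φ hKf hle (e := 10) (by omega) ⟨5, by omega⟩ (by omega) hxB
    (mem_cz hKf hle hxB hco) hxr hx1 hrF (irr_mat φ₀ hirr)
  have hdv : ∀ t, t ∣ Nat.card (low φ B) → t ∣ Nat.card A := fun t ht => hcard ▸ ht.trans (card_low_dvd φ B)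
  have hcog : Nat.Coprime (orderOf (cj φ₀ g)) 2 := by
    rw [hgo]
    exact Nat.Coprime.pow_left a ((Nat.coprime_primes hr.prime Nat.prime_two).2 hr2)
  have hgz := mem_cz hKf hle hgB hcog
  have hE' : Fintype.card E = (p ^ f) ^ 2 := by rw [hE, hF]
  rcases mat_six (hR0 E) (hR E _ hE') hE' h3 hp hf rfl hr hred (mem_low φ hgz hgB)
    (by rw [order_lift, hgo]) hbig with h | ⟨P, hP⟩
  · left
    intro t ht
    have h1 : PP (Nat.card E) 4 t := by
      rw [Nat.card_eq_fintype_card, hE']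
      exact PP.of_pow (d := 4) ht (by norm_num)
    exact hdv t (sl_dvd h1 (by omega) (by omega) h)
  · right
    intro t b ht hb
    refine hdv _ (dvd_of_hom ((MulAut.conj P).toMonoidHom.comp (H918.suHom 6 E (p ^ f)))
      ((MulAut.conj P).injective.comp H918.suHom_injective) (fun x => hP _ (H918.suHom_mem x)) (pow_dvd_su hE' ht h3 hb))

end Main

end Cfsg.Agent.H729.Rg
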