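import Cfsg.Agent.H964.Rg.Slo
import Cfsg.Agent.H128.Rg.RefAbs

/-!
# S3691: the list properties of the sections from the refined single cases (helper729)

`slo_ref`, `sls_ref` : `(p ^ f, n, k, r, l)` in helper2's `refList`.
-/

set_option autoImplicit false
set_option linter.unusedSectionVars false

namespace Cfsg.Agent.H729.Rg

open Module QuadraticMap Cfsg Cfsg.Geo Cfsg.Agent.LieClassical.OrthCore Cfsg.Agent.LieClassical.OrthTrans
  Cfsg.Agent.H454.Reg Cfsg.Agent.H884.El Cfsg.Agent.H955 Cfsg.Agent.H954.TSing Cfsg.Agent.H193.Dg Cfsg.Agent.H851.Dg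
  Cfsg.Agent.H449.Reg Cfsg.Agent.H964.Rg
open Cfsg.Agent.H951 (fx cm Inv)
open Cfsg.Agent.H278.Cov (Red Ext Num)
open scoped MatrixGroups Matrix

universe u v

variable {ι : Type} [Fintype ι] [DecidableEq ι] {F : Type v} [Field F] [Fintype F] {Q : QuadraticForm F (ι → F)}
variable {G : Type u} [Group G] [Finite G] {T : Subgroup G} [T.Normal] {hG : Good Q} {eT : T ≃* POmega F (⇑Q)}
  {hI : Ind (eP hG eT)} {X Y : Subgroup G} {p f m N : ℕ}

/-- a prime of order `k` dividing `X ∩ T` divides the order of each section group -/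
theorem dvd_sec (h : Cx hI X Y p f m N) {n k r : ℕ} (hk : 2 ≤ k) (hιn : 2 * m < n + k)
    (hr : PP (Nat.card F) k r) (hrX : r ∣ Nat.card (X.subgroupOf T))
    {U R : Submodule F (ι → F)} (hS : Sec Q (preG eT X) U R) (hU : finrank F U = n) (hR : finrank F R ≤ 1) :
    r ∣ Nat.card (secG hS) := by
  have h1 : r ∣ Nat.card (preG eT X) := hrX.trans card_dvd_preG
  obtain ⟨g, hg, -, h3, h4⟩ := exists_elt (Q := Q) (preG_le (eT := eT) (X := X)) hr hk h1
  have := Fact.mk hr.prime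
  have ho : orderOf g = r ^ 1 := by rw [pow_one]; exact orderOf_eq_prime h3 h4
  obtain ⟨e, he, -, hoe⟩ := hS.elt hr hk (by rw [h.dim, hU]; exact hιn) (by omega) hg ho one_ne_zero
  rw [pow_one] at hoe
  rw [← hoe]
  have h5 := orderOf_dvd_natCard (⟨e, he⟩ : secG hS)
  rwa [Subgroup.orderOf_mk] at h5

theorem slo_ref (hKS : ∀ (T : Type v) [Group T] [Finite T] [IsSimpleGroup T], IsKnownSimple' T)
    (h : Cx hI X Y p f m N) {n k r l e : ℕ} (hm : (p ^ f, n, k, r, l) ∈ H2.Rb.refList) (hιn : 2 * m ≤ n + 2)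
    (hk : 3 ≤ k) (he : 3 ≤ e) (hr : PP (Nat.card F) k r) (hl : PP (Nat.card F) e l)
    (hrX : r ∣ Nat.card (X.subgroupOf T)) (hlX : l ∣ Nat.card (X.subgroupOf T)) :
    SLO Q (preG eT X) n (Nat.gcd n k) := by
  intro U R hS hU hR hR0
  have h1 := H128.Rg.ref_abs hKS hS.nd (hS.le_O hR0) hm h.card hU
    (dvd_sec h (by omega) (by omega) hr hrX hS hU hR) (dvd_sec h (by omega) (by omega) hl hlX hS hU hR)
  exact h1

theorem sls_ref (hKS : ∀ (T : Type v) [Group T] [Finite T] [IsSimpleGroup T], IsKnownSimple' T)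
    (h : Cx hI X Y p f m N) (h2 : (2 : F) = 0) {n k r l e : ℕ} (hm : (p ^ f, n, k, r, l) ∈ H2.Rb.refList)
    (hιn : 2 * m ≤ n + 2)
    (hk : 3 ≤ k) (he : 3 ≤ e) (hr : PP (Nat.card F) k r) (hl : PP (Nat.card F) e l)
    (hrX : r ∣ Nat.card (X.subgroupOf T)) (hlX : l ∣ Nat.card (X.subgroupOf T)) :
    SLS Q (preG eT X) n (Nat.gcd n k) := by
  intro U R hS hU hR
  have h1 := H128.Rg.ref_sp hKS h2 hS.nd hS.polar_eq hm h.card hU
    (dvd_sec h (by omega) (by omega) hr hrX hS hU hR) (dvd_sec h (by omega) (by omega) hl hlX hS hU hR)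
  exact h1

end Cfsg.Agent.H729.Rg
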